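import Mathlib
set_option linter.all false

/-!
# Counting subgroups of prime power order (Wielandt's argument)

If `p ^ β` divides the order of the finite group `G`, the number of subgroups of order `p ^ β` is
congruent to `1` modulo `p`.
-/

set_option autoImplicit false

namespace Cfsg.Agent.H491.SubgroupCount

open scoped Pointwise

/-- An invariant set all of whose orbits have length divisible by `k` has cardinality divisible by
`k`. -/
theorem dvd_card_of_invariant {G X : Type*} [Group G] [MulAction G X] [Finite X] (S : Set X)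
    (hS : ∀ (g : G) (x : X), x ∈ S → g • x ∈ S) (k : ℕ)
    (h : ∀ x ∈ S, k ∣ Nat.card (MulAction.orbit G x)) : k ∣ Nat.card S := by
  classical
  have := Fintype.ofFinite X
  let f : S → MulAction.orbitRel.Quotient G X := fun x => Quotient.mk _ x.1
  have : Fintype (MulAction.orbitRel.Quotient G X) := Fintype.ofFinite _
  rw [Nat.card_congr (Equiv.sigmaFiberEquiv f).symm, Nat.card_sigma]
  apply Finset.dvd_sum
  intro ω _
  by_cases hne : Nonempty {x : S // f x = ω}
  · obtain ⟨⟨x, hx⟩⟩ := hne
    have e : {y : S // f y = ω} ≃ MulAction.orbit G x.1 := by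
      refine
        { toFun := fun y => ⟨y.1.1, ?_⟩
          invFun := fun y => ⟨⟨y.1, ?_⟩, ?_⟩
          left_inv := ?_
          right_inv := ?_ }
      · have : f y.1 = f x := by rw [y.2, hx]
        exact (MulAction.orbitRel_apply).1 (Quotient.exact this)
      · obtain ⟨g, hg⟩ := y.2
        have := hS g x.1 x.2
        rw [show g • x.1 = y.1 from hg] at this
        exact this
      · rw [← hx]
        exact Quotient.sound ((MulAction.orbitRel_apply).2 y.2)
      · intro y; rfl
      · intro y; rfl
    rw [Nat.card_congr e]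
    exact h x.1 x.2
  · rw [not_nonempty_iff] at hne
    rw [Nat.card_of_isEmpty]
    exact dvd_zero _

/-- The order of the stabilizer (under left translation) of a subset divides its cardinality. -/
theorem card_stabilizer_dvd {G : Type*} [Group G] [Finite G] (A : Set G) :
    Nat.card (MulAction.stabilizer G A) ∣ Nat.card A := by
  refine dvd_card_of_invariant (G := MulAction.stabilizer G A) A ?_ _ ?_
  · intro g x hx
    have h1 : (g : G) • A = A := g.2
    have h2 : (g : G) • x ∈ (g : G) • A := Set.smul_mem_smul_set hx
    rw [h1] at h2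
    exact h2
  · intro x _
    have h1 : Function.Injective (fun g : MulAction.stabilizer G A => g • x) := by
      intro a b hab
      have : (a : G) * x = (b : G) * x := hab
      exact Subtype.ext (mul_right_cancel this)
    have h2 : Nat.card (MulAction.orbit (MulAction.stabilizer G A) x)
        = Nat.card (MulAction.stabilizer G A) :=
      Nat.card_congr (Equiv.ofInjective _ h1).symm
    rw [h2]

theorem card_orbit_mul {G X : Type*} [Group G] [MulAction G X] (x : X) :
    Nat.card (MulAction.orbit G x) * Nat.card (MulAction.stabilizer G x) = Nat.card G := by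
  rw [Nat.card_congr (MulAction.orbitEquivQuotientStabilizer G x), mul_comm]
  exact Subgroup.card_mul_index _

/-- The subsets of cardinality `n` whose stabilizer has order `n` are the cosets of the subgroups
of order `n`. -/
theorem card_full {G : Type*} [Group G] [Finite G] (n m : ℕ) (hn : n ≠ 0)
    (hG : Nat.card G = n * m) :
    Nat.card {A : Set G // Nat.card A = n ∧ Nat.card (MulAction.stabilizer G A) = n}
      = Nat.card {H : Subgroup G // Nat.card H = n} * m := by
  classical
  have : Fintype {H : Subgroup G // Nat.card H = n} := Fintype.ofFinite _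
  have key : ∀ H : Subgroup G, Nat.card H = n →
      Nat.card (MulAction.orbit G (H : Set G)) = m := by
    intro H hH
    have h1 := card_orbit_mul (G := G) (H : Set G)
    rw [MulAction.stabilizer_subgroup, hH, hG, mul_comm] at h1
    exact Nat.eq_of_mul_eq_mul_left (Nat.pos_of_ne_zero hn) h1
  have e : (Σ H : {H : Subgroup G // Nat.card H = n}, MulAction.orbit G (H.1 : Set G)) ≃
      {A : Set G // Nat.card A = n ∧ Nat.card (MulAction.stabilizer G A) = n} := by
    refine Equiv.ofBijective (fun x => ⟨x.2.1, ?_, ?_⟩) ⟨?_, ?_⟩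
    · obtain ⟨⟨H, hH⟩, ⟨_, g, rfl⟩⟩ := x
      show Nat.card (g • (H : Set G) : Set G) = n
      rw [Set.natCard_smul_set]
      exact hH
    · obtain ⟨⟨H, hH⟩, ⟨A, hA⟩⟩ := x
      have h1 := card_orbit_mul (G := G) A
      have h2 := key H hH
      rw [MulAction.orbit_eq_iff.2 hA, h2, hG, mul_comm] at h1
      have hm : 0 < m := by
        rcases Nat.eq_zero_or_pos m with h0 | h0
        · rw [h0, mul_zero] at hG
          exact absurd hG Nat.card_pos.ne'
        · exact h0
      exact Nat.eq_of_mul_eq_mul_right hm h1
    · rintro ⟨⟨H, hH⟩, ⟨A, hA⟩⟩ ⟨⟨K, hK⟩, ⟨B, hB⟩⟩ hAB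
      have hAB' : A = B := congrArg Subtype.val hAB
      subst hAB'
      have hHK : H = K := by
        obtain ⟨a, ha⟩ := hA
        obtain ⟨b, hb⟩ := hB
        have hab : a • (H : Set G) = b • (K : Set G) := ha.trans hb.symm
        have h1 : (b⁻¹ * a) • (H : Set G) = (K : Set G) := by
          rw [mul_smul, hab, inv_smul_smul]
        have h2 : (b⁻¹ * a)⁻¹ ∈ H := by
          have : (1 : G) ∈ (b⁻¹ * a) • (H : Set G) := by rw [h1]; exact K.one_mem
          rw [Set.mem_smul_set_iff_inv_smul_mem, smul_eq_mul, mul_one] at this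
          exact this
        have h3 : (b⁻¹ * a) • (H : Set G) = (H : Set G) := by
          have : (b⁻¹ * a) ∈ MulAction.stabilizer G (H : Set G) := by
            rw [MulAction.stabilizer_subgroup]
            exact (H.inv_mem_iff).1 h2
          exact this
        exact SetLike.coe_injective (h3.symm.trans h1)
      subst hHK
      rfl
    · rintro ⟨A, hA, hS⟩
      have hne : A.Nonempty := by
        rw [Set.nonempty_iff_ne_empty]
        rintro rfl
        apply hn
        rw [← hA]
        simp
      obtain ⟨a, ha⟩ := hne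
      let S := MulAction.stabilizer G A
      let H : Subgroup G := S.map (MulAut.conj a⁻¹).toMonoidHom
      have hH : Nat.card H = n := by
        rw [← hS]
        exact Nat.card_congr (S.equivMapOfInjective _ (MulAut.conj a⁻¹).injective).toEquiv.symm
      have hsub : a • (H : Set G) ⊆ A := by
        rintro _ ⟨_, ⟨s, hs, rfl⟩, rfl⟩
        have h1 : s • A = A := hs
        have h2 : s • a ∈ s • A := Set.smul_mem_smul_set ha
        rw [h1] at h2
        simpa [mul_assoc] using h2
      have hcard : Nat.card A ≤ Nat.card (a • (H : Set G) : Set G) := by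
        rw [Set.natCard_smul_set, hA]
        exact hH.ge
      have heq : a • (H : Set G) = A := Set.eq_of_subset_of_ncard_le hsub
        (by rw [← Nat.card_coe_set_eq, ← Nat.card_coe_set_eq]; exact hcard) (Set.toFinite _)
      exact ⟨⟨⟨H, hH⟩, ⟨A, ⟨a, heq⟩⟩⟩, rfl⟩
  rw [← Nat.card_congr e, Nat.card_sigma, Finset.sum_congr rfl (fun H _ => key H.1 H.2),
    Finset.sum_const, smul_eq_mul, Nat.card_eq_fintype_card, Finset.card_univ]

theorem card_subsets_modEq {G : Type*} [Group G] [Finite G] (p β m : ℕ) (hp : p.Prime)
    (hG : Nat.card G = p ^ β * m) :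
    Nat.card {A : Set G // Nat.card A = p ^ β}
      ≡ Nat.card {H : Subgroup G // Nat.card H = p ^ β} * m [MOD p * m] := by
  classical
  have h1 : Nat.card {A : Set G // Nat.card A = p ^ β} =
      Nat.card {A : Set G // Nat.card A = p ^ β ∧ Nat.card (MulAction.stabilizer G A) = p ^ β} +
      Nat.card {A : Set G // Nat.card A = p ^ β ∧
        Nat.card (MulAction.stabilizer G A) ≠ p ^ β} := by
    rw [← Nat.card_sum]
    refine Nat.card_congr ?_
    refine (Equiv.sumCompl (fun A : {A : Set G // Nat.card A = p ^ β} =>
      Nat.card (MulAction.stabilizer G A.1) = p ^ β)).symm.trans ?_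
    exact Equiv.sumCongr (Equiv.subtypeSubtypeEquivSubtypeInter (fun A : Set G => Nat.card A = p ^ β)
        (fun A : Set G => Nat.card (MulAction.stabilizer G A) = p ^ β))
      (Equiv.subtypeSubtypeEquivSubtypeInter (fun A : Set G => Nat.card A = p ^ β)
        (fun A : Set G => ¬ Nat.card (MulAction.stabilizer G A) = p ^ β))
  rw [h1, card_full (p ^ β) m (pow_pos hp.pos β).ne' hG]
  have h2 : p * m ∣ Nat.card {A : Set G // Nat.card A = p ^ β ∧
        Nat.card (MulAction.stabilizer G A) ≠ p ^ β} := by
    refine dvd_card_of_invariant (G := G) {A : Set G | Nat.card A = p ^ β ∧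
        Nat.card (MulAction.stabilizer G A) ≠ p ^ β} ?_ _ ?_
    · rintro g A ⟨hA, hS⟩
      refine ⟨?_, ?_⟩
      · rw [Set.natCard_smul_set]; exact hA
      · rw [MulAction.stabilizer_smul_eq_stabilizer_map_conj]
        rw [← Nat.card_congr ((MulAction.stabilizer G A).equivMapOfInjective _
          (MulAut.conj g).injective).toEquiv]
        exact hS
    · rintro A ⟨hA, hS⟩
      have h3 := card_stabilizer_dvd A
      rw [hA] at h3
      obtain ⟨j, hj, hjc⟩ := (Nat.dvd_prime_pow hp).1 h3
      have hjβ : j < β := lt_of_le_of_ne hj (fun h => hS (by rw [hjc, h]))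
      have h4 := card_orbit_mul (G := G) A
      rw [hjc, hG] at h4
      obtain ⟨i, rfl⟩ := Nat.exists_eq_add_of_lt hjβ
      have h5 : Nat.card (MulAction.orbit G A) = p ^ i * (p * m) := by
        apply Nat.eq_of_mul_eq_mul_right (pow_pos hp.pos j)
        rw [h4]; ring
      rw [h5]
      exact Dvd.intro_left _ rfl
  exact (Nat.ModEq.add_left _ ((Nat.modEq_zero_iff_dvd).2 h2)).trans (by rw [Nat.add_zero])

/-- A finite cyclic group has exactly one subgroup of each order dividing the group order. -/
theorem card_cyclic {C : Type*} [CommGroup C] [Finite C] [IsCyclic C] (n : ℕ)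
    (hn : n ∣ Nat.card C) : Nat.card {H : Subgroup C // Nat.card H = n} = 1 := by
  have h1 : ∀ H : Subgroup C, Nat.card H = n ↔ H = (powMonoidHom n : C →* C).ker := by
    intro H
    have h2 : Nat.card (powMonoidHom n : C →* C).ker = n := by
      rw [IsCyclic.card_powMonoidHom_ker]
      exact Nat.gcd_eq_right hn
    constructor
    · intro hH
      apply Subgroup.eq_of_le_of_card_ge
      · intro x hx
        rw [MonoidHom.mem_ker, powMonoidHom_apply, ← hH]
        have := pow_card_eq_one' (x := (⟨x, hx⟩ : H))
        exact congrArg Subtype.val this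
      · rw [h2, hH]
    · rintro rfl
      exact h2
  rw [Nat.card_eq_one_iff_unique]
  constructor
  · constructor
    intro a b
    exact Subtype.ext (((h1 a.1).1 a.2).trans ((h1 b.1).1 b.2).symm)
  · exact ⟨⟨_, (h1 _).2 rfl⟩⟩

/-- **Frobenius**: the number of subgroups of order `p ^ β` is congruent to `1` modulo `p`. -/
theorem card_subgroups_modEq_one {G : Type*} [Group G] [Finite G] (p β : ℕ) (hp : p.Prime)
    (hdiv : p ^ β ∣ Nat.card G) :
    Nat.card {H : Subgroup G // Nat.card H = p ^ β} ≡ 1 [MOD p] := by
  obtain ⟨m, hm⟩ := hdiv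
  have hpos : 0 < Nat.card G := Nat.card_pos
  have hm0 : 0 < m := by
    rcases Nat.eq_zero_or_pos m with h0 | h0
    · rw [h0, mul_zero] at hm; omega
    · exact h0
  have : NeZero (Nat.card G) := ⟨hpos.ne'⟩
  let C := Multiplicative (ZMod (Nat.card G))
  have hC : Nat.card C = Nat.card G := by
    show Nat.card (ZMod (Nat.card G)) = _
    exact Nat.card_zmod _
  have h1 := card_subsets_modEq (G := G) p β m hp hm
  have h2 := card_subsets_modEq (G := C) p β m hp (hC.trans hm)
  rw [card_cyclic (C := C) (p ^ β) (by rw [hC, hm]; exact Dvd.intro _ rfl), one_mul] at h2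
  have e : G ≃ C := ((Finite.card_eq).1 hC.symm).some
  have h3 : Nat.card {A : Set G // Nat.card A = p ^ β} =
      Nat.card {A : Set C // Nat.card A = p ^ β} := by
    refine Nat.card_congr ((Equiv.Set.congr e).subtypeEquiv ?_)
    intro A
    show _ ↔ Nat.card (e '' A) = _
    rw [Nat.card_image_of_injective e.injective]
  rw [h3] at h1
  have h4 : Nat.card {H : Subgroup G // Nat.card H = p ^ β} * m ≡ 1 * m [MOD p * m] := by
    rw [one_mul]
    exact h1.symm.trans h2
  exact Nat.ModEq.mul_right_cancel' hm0.ne' h4

end Cfsg.Agent.H491.SubgroupCount
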